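import Mathlib
import Cfsg.Prelude.Def_Classical
import Cfsg.Agent.Lib.Helper13.SPMEND
import Cfsg.Agent.Lib.Helper21.PresPad

/-!
# S2296 from a bounded presentation of `Sp_{2n}(F)` on eight generators (helper9)

`spx_s2296`: the frozen statement S2296 from the single input
`hSp : 3 ≤ n → ∃ R : Finset (FreeGroup (Fin 8)), R.card ≤ (if n = 3 then 52 else 56) ∧ Nonempty (PresentedGroup R ≃* Sp_{2n}(F))`
(the gluing theorem of project SPM with `S_n` on two generators: `≤ 3` relators for `n = 3, 4`, `≤ 6` for `n ≥ 5`;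
`Sp_4(F)` on six generators with `≤ 35` relators; at most `15` gluing relators (`14` for `n = 3`)).
A dummy generator costs one relator (`Helper21.PresPad.pad_le`), the central quotient one more
(`helper3.SPM.psp_pres`).
-/

set_option autoImplicit false

namespace Cfsg.Agent.Lib.Helper9.SPX

open Cfsg.Agent.Lib.helper3.SPM

universe u

variable {F : Type u} [Field F] [Fintype F]

/-- `Sp` on `k` generators with `≤ r` relators gives `PSp` on `k` generators with `≤ r + 1` relators. -/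
theorem psp_of_sp (n : ℕ) (hn : 1 ≤ n) {k r : ℕ}
    (h : ∃ rels : Finset (FreeGroup (Fin k)), rels.card ≤ r ∧
      Nonempty (PresentedGroup (↑rels : Set (FreeGroup (Fin k))) ≃* Matrix.symplecticGroup (Fin n) F)) :
    ∃ rels : Finset (FreeGroup (Fin k)), rels.card ≤ r + 1 ∧
      Nonempty (PresentedGroup (↑rels : Set (FreeGroup (Fin k))) ≃* Cfsg.PSp n F) := by
  obtain ⟨R, hR, ⟨e⟩⟩ := h
  obtain ⟨rels, hc, he⟩ := psp_pres n hn R e
  exact ⟨rels, by omega, he⟩

/-- the frozen statement S2296 from a presentation on eight generators -/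
theorem spx_s2296 (n : ℕ)
    (hSp : 3 ≤ n → ∃ R : Finset (FreeGroup (Fin 8)), R.card ≤ (if n = 3 then 52 else 56) ∧
      Nonempty (PresentedGroup (↑R : Set (FreeGroup (Fin 8))) ≃* Matrix.symplecticGroup (Fin n) F)) :
    (4 ≤ n → (∃ rels : Finset (FreeGroup (Fin 10)), rels.card ≤ 58 ∧ Nonempty (PresentedGroup (↑rels : Set (FreeGroup (Fin 10))) ≃* Matrix.symplecticGroup (Fin n) F)) ∧ (∃ rels : Finset (FreeGroup (Fin 10)), rels.card ≤ 59 ∧ Nonempty (PresentedGroup (↑rels : Set (FreeGroup (Fin 10))) ≃* Cfsg.PSp n F))) ∧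
    ((n = 4 ∨ n = 5) → (∃ rels : Finset (FreeGroup (Fin 9)), rels.card ≤ 57 ∧ Nonempty (PresentedGroup (↑rels : Set (FreeGroup (Fin 9))) ≃* Matrix.symplecticGroup (Fin n) F)) ∧ (∃ rels : Finset (FreeGroup (Fin 9)), rels.card ≤ 58 ∧ Nonempty (PresentedGroup (↑rels : Set (FreeGroup (Fin 9))) ≃* Cfsg.PSp n F))) ∧
    (n = 3 → (∃ rels : Finset (FreeGroup (Fin 8)), rels.card ≤ 52 ∧ Nonempty (PresentedGroup (↑rels : Set (FreeGroup (Fin 8))) ≃* Matrix.symplecticGroup (Fin n) F)) ∧ (∃ rels : Finset (FreeGroup (Fin 8)), rels.card ≤ 53 ∧ Nonempty (PresentedGroup (↑rels : Set (FreeGroup (Fin 8))) ≃* Cfsg.PSp n F))) := by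
  refine ⟨?_, ?_, ?_⟩
  · intro hn
    have h8 : ∃ R : Finset (FreeGroup (Fin 8)), R.card ≤ 56 ∧
        Nonempty (PresentedGroup (↑R : Set (FreeGroup (Fin 8))) ≃* Matrix.symplecticGroup (Fin n) F) := by
      obtain ⟨R, hR, he⟩ := hSp (by omega)
      rw [if_neg (by omega)] at hR
      exact ⟨R, hR, he⟩
    have h10 : ∃ rels : Finset (FreeGroup (Fin 10)), rels.card ≤ 58 ∧
        Nonempty (PresentedGroup (↑rels : Set (FreeGroup (Fin 10))) ≃* Matrix.symplecticGroup (Fin n) F) :=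
      Cfsg.Agent.Lib.Helper21.PresPad.pad_le (m := 8) (k := 10) (r := 56) (r' := 58) (by norm_num)
        (by norm_num) h8
    exact ⟨h10, psp_of_sp n (by omega) h10⟩
  · intro hn
    have h8 : ∃ R : Finset (FreeGroup (Fin 8)), R.card ≤ 56 ∧
        Nonempty (PresentedGroup (↑R : Set (FreeGroup (Fin 8))) ≃* Matrix.symplecticGroup (Fin n) F) := by
      obtain ⟨R, hR, he⟩ := hSp (by omega)
      rw [if_neg (by omega)] at hR
      exact ⟨R, hR, he⟩
    have h9 : ∃ rels : Finset (FreeGroup (Fin 9)), rels.card ≤ 57 ∧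
        Nonempty (PresentedGroup (↑rels : Set (FreeGroup (Fin 9))) ≃* Matrix.symplecticGroup (Fin n) F) :=
      Cfsg.Agent.Lib.Helper21.PresPad.pad_le (m := 8) (k := 9) (r := 56) (r' := 57) (by norm_num)
        (by norm_num) h8
    exact ⟨h9, psp_of_sp n (by omega) h9⟩
  · intro hn
    have h8 : ∃ R : Finset (FreeGroup (Fin 8)), R.card ≤ 52 ∧
        Nonempty (PresentedGroup (↑R : Set (FreeGroup (Fin 8))) ≃* Matrix.symplecticGroup (Fin n) F) := by
      obtain ⟨R, hR, he⟩ := hSp (by omega)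
      rw [if_pos hn] at hR
      exact ⟨R, hR, he⟩
    exact ⟨h8, psp_of_sp n (by omega) h8⟩

end Cfsg.Agent.Lib.Helper9.SPX
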