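import Mathlib
import Cfsg.Prelude.Def_Classical
import Cfsg.Agent.Lib.Helper9.SPX.End
import Cfsg.Agent.Lib.helper4.SAPSM2
import Cfsg.Agent.Lib.Helper11.SAPSM4
import Cfsg.Agent.Lib.Helper28.SAP6c

/-!
# S2296: from the main theorem of project SPM (`spm_pres`, as a hypothesis) to the input of `spx_s2296` (helper9)

`S_m` on two generators: `≤ 3` relators for `m = 3, 4` (`pres_S3`, `pres_S4`), `≤ 6` for `m ≥ 5` (`sap6_sym`);
`3 + 35 + 14 = 52`, `3 + 35 + 15 = 53 ≤ 56`, `6 + 35 + 15 = 56`.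
-/

set_option autoImplicit false

namespace Cfsg.Agent.Lib.Helper9.SPX

universe u

variable {F : Type u} [Field F] [Fintype F]

/-- `S_n` on two generators -/
theorem sym_two_gen (n : ℕ) (hn : 3 ≤ n) :
    ∃ rels : Finset (FreeGroup (Fin 2)), rels.card ≤ (if n ≤ 4 then 3 else 6) ∧
      Nonempty (PresentedGroup (↑rels : Set (FreeGroup (Fin 2))) ≃* Equiv.Perm (Fin n)) := by
  by_cases h3 : n = 3
  · subst h3
    simpa using Cfsg.Agent.Lib.helper7.SAP.pres_S3
  by_cases h4 : n = 4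
  · subst h4
    simpa using Cfsg.Agent.Lib.helper7.SAP.pres_S4
  have h5 : 5 ≤ n := by omega
  rw [if_neg (by omega)]
  exact Cfsg.Agent.Lib.Helper28.SAP6.sap6_sym n h5

/-- the input of `spx_s2296` from the statement of `spm_pres` at `k = 2` -/
theorem spx_bridge (n : ℕ)
    (hspm : 3 ≤ n → ∀ (relsN : Finset (FreeGroup (Fin 2)))
      (_ : PresentedGroup (↑relsN : Set (FreeGroup (Fin 2))) ≃* Equiv.Perm (Fin n)),
      ∃ rels : Finset (FreeGroup (Fin (2 + 6))), rels.card ≤ relsN.card + 35 + (if 4 ≤ n then 15 else 14) ∧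
        Nonempty (PresentedGroup (↑rels : Set (FreeGroup (Fin (2 + 6)))) ≃* ↥(Matrix.symplecticGroup (Fin n) F))) :
    3 ≤ n → ∃ R : Finset (FreeGroup (Fin 8)), R.card ≤ (if n = 3 then 52 else 56) ∧
      Nonempty (PresentedGroup (↑R : Set (FreeGroup (Fin 8))) ≃* Matrix.symplecticGroup (Fin n) F) := by
  intro hn
  obtain ⟨relsN, hN, ⟨eN⟩⟩ := sym_two_gen n hn
  obtain ⟨rels, hc, he⟩ := hspm hn relsN eN
  refine ⟨rels, ?_, he⟩
  by_cases h3 : n = 3
  · rw [if_pos h3]
    rw [if_pos (by omega)] at hN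
    rw [if_neg (by omega)] at hc
    omega
  · rw [if_neg h3]
    rw [if_pos (by omega)] at hc
    split_ifs at hN <;> omega

end Cfsg.Agent.Lib.Helper9.SPX
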